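/-
The presented group `SuzP6` (six involutions `a, …, f`; the relators of the presented Suzuki group
that involve only these) is simple of order 251596800, by helper56.
Lower bound and simplicity come from the permutation representation on the 416 cosets of
`⟨a, …, e⟩` (coset enumeration `SuzP6`); the upper bound is `SuzUpper.card_P6`.
-/
import Cfsg.Agent.Lib.Helper56.G2Perm.ChkAll
import Cfsg.Agent.Lib.Helper56.SuzUpper
import Cfsg.Agent.Lib.Helper56.PermSimple2

set_option autoImplicit false

namespace Cfsg.Agent.Lib.Helper56.G2Perm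

open Cfsg.Agent.Lib.Helper56.SuzP6 (Gen rels)
open Cfsg.Agent.Lib.Helper28 Cfsg.Agent.Lib.Helper28.TC Cfsg.Agent.Lib.Helper56.SuzP6
open MulAction

/-- the permutation of a word -/
noncomputable def wp (w : List Gen) : Equiv.Perm (Fin nn) := (w.map T.perm).prod

/-- the permutation group generated by the generators -/
noncomputable def Gh : Subgroup (Equiv.Perm (Fin nn)) := Subgroup.closure (wordPerms T words0)

theorem words0_eq : words0 = [[Gen.a], [Gen.b], [Gen.c], [Gen.d], [Gen.e], [Gen.f]] := rfl

theorem wp_apply (w : List Gen) (i : Fin nn) : (wp w i).val = act tf w i :=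
  T.wordPerm_apply_val w i

theorem wp_singleton (x : Gen) : wp [x] = T.perm x := by simp [wp]

theorem wp_append (w w' : List Gen) : wp (w ++ w') = wp w * wp w' := by simp [wp]

theorem perm_mem_Gh (x : Gen) : T.perm x ∈ Gh := by
  apply Subgroup.subset_closure
  refine ⟨[x], ?_, (wp_singleton x).symm⟩
  rw [words0_eq]
  cases x <;> simp

theorem wp_mem_Gh (w : List Gen) : wp w ∈ Gh := by
  apply Subgroup.list_prod_mem
  intro p hp
  obtain ⟨x, -, rfl⟩ := List.mem_map.1 hp
  exact perm_mem_Gh x

theorem wp_eq_one (w : List Gen) (h : ∀ i, i < nn → act tf w i = i) : wp w = 1 :=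
  T.wordPerm_eq_one w h

theorem wp_pow (w : List Gen) (k : ℕ) : wp (List.replicate k w).flatten = wp w ^ k :=
  WE.wval_replicate_flatten T.perm w k

theorem nn_eq : nn = 416 := rfl

/-- the set certified by an orbit certificate -/
def oset (O : OrbCert) : Set (Fin nn) := {i | O.inO i = true}

theorem orbit_eq (words : List (List Gen)) (O : OrbCert) (hroot : O.root < nn)
    (hrootin : O.inO O.root = true) (hrows : ∀ i, i < nn → orbRowOK tf nn words O i = true) :
    orbit (Subgroup.closure (wordPerms T words)) (⟨O.root, hroot⟩ : Fin nn) = oset O :=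
  orbit_eq_of_cert T words O hroot hrootin hrows

theorem nn_le_pow' : nn ≤ 2 ^ 9 := by decide

/-- the points of `Fin nn` with the given values -/
def mkPts (l : List ℕ) : List (Fin nn) :=
  l.filterMap fun k => if h : k < nn then some ⟨k, h⟩ else none

theorem val_mem_of_mem_mkPts (l : List ℕ) : ∀ p ∈ mkPts l, p.val ∈ l := by
  intro p hp
  unfold mkPts at hp
  rw [List.mem_filterMap] at hp
  obtain ⟨k, hk, hkp⟩ := hp
  by_cases h : k < nn
  · rw [dif_pos h] at hkp
    have : p = ⟨k, h⟩ := (Option.some.inj hkp).symm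
    rw [this]; exact hk
  · rw [dif_neg h] at hkp
    cases hkp

theorem mkPts_cons (b : ℕ) (hb : b < nn) (l : List ℕ) :
    mkPts (b :: l) = ⟨b, hb⟩ :: mkPts l := by
  unfold mkPts
  rw [List.filterMap_cons, dif_pos hb]

theorem oset_ncard (O : OrbCert) (m : ℕ)
    (hcount : countRange (fun i => band (nlt i nn) (O.inO i)) 9 0 = m) : (oset O).ncard = m := by
  unfold oset
  rw [card_fin_filter _ nn 9 nn_le_pow', hcount]

/-- one step of the stabilizer chain -/
theorem step_aux (ptsN fixN : List ℕ) (hsub : ∀ b ∈ ptsN, b ∈ fixN)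
    (words : List (List Gen))
    (hfix : allList (fun w => allList (fun b => Nat.beq (act tf w b) b) fixN) words = true)
    (O : OrbCert) (hroot : O.root < nn) (hrootin : O.inO O.root = true)
    (hrows : ∀ i, i < nn → orbRowOK tf nn words O i = true)
    (m : ℕ) (hcount : countRange (fun i => band (nlt i nn) (O.inO i)) 9 0 = m)
    (k : ℕ) (hk : k ≤ Nat.card (ptStab Gh (mkPts (O.root :: ptsN)))) :
    m * k ≤ Nat.card (ptStab Gh (mkPts ptsN)) := by
  rw [mkPts_cons O.root hroot] at hk
  apply card_ptStab_ge Gh (mkPts ptsN) ⟨O.root, hroot⟩ (wordPerms T words) _ m k _ hk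
  · rintro s ⟨w, hw, rfl⟩
    refine ⟨wp_mem_Gh w, ?_⟩
    intro p hp
    apply Fin.ext
    have h1 := allList_spec _ _ hfix w hw
    have h2 := allList_spec _ _ h1 p.val (hsub _ (val_mem_of_mem_mkPts ptsN p hp))
    exact (wp_apply w p).trans (nbeq_eq_true.1 h2)
  · rw [orbit_eq words O hroot hrootin hrows, oset_ncard O m hcount]

theorem card_Gh_ge : 251596800 ≤ Nat.card Gh := by
  have h4 : 1 ≤ Nat.card (ptStab Gh (mkPts [32, 1, 38, 0])) := Nat.card_pos
  have h3 := step_aux [1, 38, 0] [0, 38, 1] (by decide) words3 fix3 OC3 (by decide) orb3_root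
    orbP3_all 24 orb3_count 1 h4
  have h2 := step_aux [38, 0] [0, 38] (by decide) words2 fix2 OC2 (by decide) orb2_root
    orbP2_all 252 orb2_count _ h3
  have h1 := step_aux [0] [0] (by decide) words1 fix1 OC1 (by decide) orb1_root
    orbP1_all 100 orb1_count _ h2
  have h0 := step_aux [] [] (by decide) words0 fix0 OC0 (by decide) orb0_root
    orbP0_all 416 orb0_count _ h1
  have hnil : mkPts [] = [] := rfl
  rw [hnil, ptStab_nil] at h0
  exact le_trans (by norm_num) h0

/-- the permutation representation of the presented group -/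
noncomputable def π : PresentedGroup rels →* Equiv.Perm (Fin nn) := PresentedGroup.toGroup hrel

theorem π_of (x : Gen) : π (PresentedGroup.of x) = T.perm x := PresentedGroup.toGroup.of hrel

theorem range_π : π.range = Gh := by
  apply le_antisymm
  · rw [MonoidHom.range_eq_map, ← PresentedGroup.closure_range_of, MonoidHom.map_closure,
      Subgroup.closure_le]
    rintro _ ⟨_, ⟨x, rfl⟩, rfl⟩
    rw [π_of]
    exact perm_mem_Gh x
  · unfold Gh
    rw [Subgroup.closure_le]
    rintro _ ⟨w, hw, rfl⟩
    rw [words0_eq] at hw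
    simp only [List.mem_cons, List.not_mem_nil, or_false] at hw
    have hx : ∃ x : Gen, w = [x] := by
      rcases hw with rfl | rfl | rfl | rfl | rfl | rfl <;> exact ⟨_, rfl⟩
    obtain ⟨x, rfl⟩ := hx
    exact ⟨PresentedGroup.of x, by rw [π_of]; simp⟩

theorem π_mem (g : PresentedGroup rels) : π g ∈ Gh := by rw [← range_π]; exact ⟨g, rfl⟩

theorem codRestrict_bijective : Function.Bijective (π.codRestrict Gh π_mem) := by
  obtain ⟨hfin, hcard⟩ := SuzUpper.card_P6
  have hsurj : Function.Surjective (π.codRestrict Gh π_mem) := by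
    rintro ⟨p, hp⟩
    rw [← range_π] at hp
    obtain ⟨g, rfl⟩ := hp
    exact ⟨g, rfl⟩
  exact hsurj.bijective_of_nat_card_le (le_trans hcard card_Gh_ge)

/-- the presented group is isomorphic to the permutation group -/
theorem exists_equiv : Nonempty (PresentedGroup rels ≃* Gh) :=
  ⟨MulEquiv.ofBijective _ codRestrict_bijective⟩

/-- the permutation representation is faithful -/
theorem π_injective : Function.Injective π := by
  intro x y hxy
  apply codRestrict_bijective.1
  exact Subtype.ext hxy

theorem π_wval (w : List Gen) : π (wval (pval rels) w) = wp w := by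
  unfold wval wp
  rw [map_list_prod, List.map_map]
  congr 1

/-- a word acting trivially on all points is trivial in the presented group -/
theorem wval_eq_one_of_act (w : List Gen) (h : ∀ i, i < nn → act tf w i = i) :
    wval (pval rels) w = 1 := by
  apply π_injective
  rw [π_wval, map_one]
  exact wp_eq_one w h

theorem card_Gh : Nat.card Gh = 251596800 := by
  obtain ⟨e⟩ := exists_equiv
  apply le_antisymm _ card_Gh_ge
  rw [← Nat.card_congr e.toEquiv]
  exact SuzUpper.card_P6.2

theorem card_Q : Nat.card (PresentedGroup rels) = 251596800 := by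
  obtain ⟨e⟩ := exists_equiv
  rw [Nat.card_congr e.toEquiv, card_Gh]

/-! ### Simplicity -/

/-- the stabilizer part -/
noncomputable def Kh : Subgroup (Equiv.Perm (Fin nn)) := Subgroup.closure (wordPerms T wordsK)

theorem Kh_le : Kh ≤ Gh := by
  unfold Kh
  rw [Subgroup.closure_le]
  rintro _ ⟨w, -, rfl⟩
  exact wp_mem_Gh w

theorem Kh_fix : ∀ k ∈ Kh, k (⟨0, nn_pos⟩ : Fin nn) = ⟨0, nn_pos⟩ := by
  have : Kh ≤ stabilizer (Equiv.Perm (Fin nn)) (⟨0, nn_pos⟩ : Fin nn) := by
    unfold Kh
    rw [Subgroup.closure_le]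
    rintro _ ⟨w, hw, rfl⟩
    apply mem_stabilizer_iff.2
    apply Fin.ext
    have h1 := allList_spec _ _ fixK w hw
    exact (wp_apply w _).trans (nbeq_eq_true.1 h1)
  intro k hk
  exact mem_stabilizer_iff.1 (this hk)

theorem trans_of_orbit (O : OrbCert) (hroot : O.root < nn)
    (h : orbit Kh (⟨O.root, hroot⟩ : Fin nn) = oset O) :
    ∀ d ∈ oset O, ∀ e ∈ oset O, ∃ k ∈ Kh, k d = e := by
  intro d hd e he
  rw [← h] at hd he
  obtain ⟨⟨k1, hk1⟩, rfl⟩ := hd
  obtain ⟨⟨k2, hk2⟩, rfl⟩ := he
  refine ⟨k2 * k1⁻¹, Kh.mul_mem hk2 (Kh.inv_mem hk1), ?_⟩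
  show (k2 * k1⁻¹) (k1 _) = k2 _
  simp

theorem lab_spec (i : ℕ) (hi : i < nn) : lab i ≤ 2 ∧ (lab i = 0 ↔ i = 0) := by
  have h := labP_all i hi
  unfold labP at h
  rw [band_eq_true] at h
  refine ⟨Nat.le_of_ble_eq_true h.1, ?_⟩
  have h2 := h.2
  by_cases h0 : i = 0
  · subst h0
    have h3 : Nat.beq (lab 0) 0 = true := h2
    exact ⟨fun _ => rfl, fun _ => nbeq_eq_true.1 h3⟩
  · have hb : Nat.beq i 0 = false := by
      cases hb' : Nat.beq i 0 with
      | false => rfl
      | true => exact absurd (nbeq_eq_true.1 hb') h0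
    rw [hb] at h2
    have h3 : nlt 0 (lab i) = true := h2
    have h4 : 0 < lab i := nlt_eq_true.1 h3
    exact ⟨fun h5 => absurd h5 (by omega), fun h5 => absurd h5 h0⟩

/-- the suborbit label of a point -/
def cls (c : Fin nn) : ℕ := lab c.val

/-- the suborbit sizes -/
def msz (j : ℕ) : ℕ := [1, 315, 100].getD j 0

theorem mem_oset_OCs (j r : ℕ) (c : Fin nn) : c ∈ oset (OCs j r) ↔ cls c = j := by
  show Nat.beq (lab c.val) j = true ↔ lab c.val = j
  exact nbeq_eq_true

theorem cls_trans (j r : ℕ) (hroot : r < nn) (hrootin : (OCs j r).inO r = true)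
    (hrows : ∀ i, i < nn → orbRowOK tf nn wordsK (OCs j r) i = true)
    (d e : Fin nn) (hd : cls d = j) (he : cls e = j) : ∃ k ∈ Kh, k d = e :=
  trans_of_orbit (OCs j r) hroot (orbit_eq wordsK (OCs j r) hroot hrootin hrows) d
    ((mem_oset_OCs j r d).2 hd) e ((mem_oset_OCs j r e).2 he)

theorem cls_card (j r m : ℕ)
    (hcount : countRange (fun i => band (nlt i nn) ((OCs j r).inO i)) 9 0 = m) :
    (Finset.univ.filter (fun c : Fin nn => cls c = j)).card = m := by
  have hset : oset (OCs j r) =
      ((Finset.univ.filter (fun c : Fin nn => cls c = j) : Finset (Fin nn)) : Set (Fin nn)) := by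
    ext c
    simp only [Finset.coe_filter, Finset.mem_univ, true_and, Set.mem_ofPred_eq]
    exact mem_oset_OCs j r c
  rw [← oset_ncard (OCs j r) m hcount, hset, Set.ncard_coe_finset]

theorem perm_mem_of_uv (x : Gen) (h : ∃ t ∈ uvWords, t.1 = x) :
    T.perm x ∈ Subgroup.closure {u : Equiv.Perm (Fin nn) | u ∈ Gh ∧ u ^ 13 = 1} := by
  obtain ⟨⟨x', u, v⟩, ht, rfl⟩ := h
  have hrow : ∀ i, i < nn → act tf (List.replicate 13 u).flatten i = i ∧
      act tf (List.replicate 13 v).flatten i = i ∧ act tf (u ++ v) i = tf x' i := by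
    intro i hi
    have h0 := ordP_all i hi
    unfold ordP at h0
    rw [band_eq_true] at h0
    have h1 := allList_spec _ _ h0.1 _ ht
    rw [band_eq_true, band_eq_true] at h1
    exact ⟨nbeq_eq_true.1 h1.1, nbeq_eq_true.1 h1.2.1, nbeq_eq_true.1 h1.2.2⟩
  have hx : T.perm x' = wp u * wp v := by
    rw [← wp_singleton, ← wp_append]
    apply Equiv.ext
    intro i
    apply Fin.ext
    rw [wp_apply, wp_apply]
    exact ((hrow i i.2).2.2).symm
  show T.perm x' ∈ _
  rw [hx]
  apply Subgroup.mul_mem
  · apply Subgroup.subset_closure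
    refine ⟨wp_mem_Gh u, ?_⟩
    rw [← wp_pow]; exact wp_eq_one _ fun i hi => (hrow i hi).1
  · apply Subgroup.subset_closure
    refine ⟨wp_mem_Gh v, ?_⟩
    rw [← wp_pow]; exact wp_eq_one _ fun i hi => (hrow i hi).2.1

theorem perm_mem_closure (x : Gen) :
    T.perm x ∈ Subgroup.closure {u : Equiv.Perm (Fin nn) | u ∈ Gh ∧ u ^ 13 = 1} := by
  rcases uv_cover x with h | ⟨⟨x', w⟩, ht, rfl, hall⟩
  · exact perm_mem_of_uv x h
  · have hrow : ∀ i, i < nn → act tf w i = tf x' i := by
      intro i hi
      have h0 := ordP_all i hi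
      unfold ordP at h0
      rw [band_eq_true] at h0
      exact nbeq_eq_true.1 (allList_spec _ _ h0.2 _ ht)
    have hx : T.perm x' = wp w := by
      rw [← wp_singleton]
      apply Equiv.ext
      intro i
      apply Fin.ext
      rw [wp_apply, wp_apply]
      exact (hrow i i.2).symm
    show T.perm x' ∈ _
    rw [hx]
    apply Subgroup.list_prod_mem
    intro q hq
    obtain ⟨y, hy, rfl⟩ := List.mem_map.1 hq
    exact perm_mem_of_uv y (hall y hy)

theorem hdiv_aux : ∀ J ∈ (Finset.range (2 + 1)).powerset, 0 ∈ J → J ≠ {0} →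
    J ≠ Finset.range (2 + 1) → ¬ (∑ j ∈ J, msz j) ∣ 416 := by decide +kernel

theorem simple_Gh : IsSimpleGroup Gh := by
  have horb0 := orbit_eq words0 OC0 (by decide) orb0_root orbP0_all
  have hcardX : Fintype.card (Fin nn) = 416 := by rw [Fintype.card_fin]; rfl
  apply isSimpleGroup_of_suborbits Gh (⟨0, nn_pos⟩ : Fin nn) (by rw [hcardX]; norm_num) _ Kh Kh_le
    Kh_fix cls 2 _ _ _ msz _ _ 13 1 (by norm_num) _ _ (wordPerms T words0) rfl _
  · -- transitivity
    intro c
    have huniv : oset OC0 = Set.univ := by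
      apply Set.eq_of_subset_of_ncard_le (Set.subset_univ _) _ (Set.toFinite _)
      rw [oset_ncard OC0 416 orb0_count, Set.ncard_univ, Nat.card_eq_fintype_card, hcardX]
    have hc : c ∈ orbit (Subgroup.closure (wordPerms T words0))
        (⟨OC0.root, by decide⟩ : Fin nn) := by
      rw [horb0, huniv]; trivial
    obtain ⟨⟨g, hg⟩, rfl⟩ := hc
    exact ⟨g, hg, rfl⟩
  · intro c
    exact (lab_spec c.val c.2).1
  · intro c
    rw [show cls c = lab c.val from rfl, (lab_spec c.val c.2).2]
    exact ⟨fun h => Fin.ext h, fun h => congrArg Fin.val h⟩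
  · -- transitivity of the stabilizer part on the classes
    intro d e hde
    obtain ⟨j, hj⟩ : ∃ j, cls d = j := ⟨_, rfl⟩
    have hje : cls e = j := hde ▸ hj
    have hj4 : j ≤ 2 := hj ▸ (lab_spec d.val d.2).1
    interval_cases j
    · have hd0 : d.val = 0 := (lab_spec d.val d.2).2.1 hj
      have he0 : e.val = 0 := (lab_spec e.val e.2).2.1 hje
      exact ⟨1, Kh.one_mem, Fin.ext (hd0.trans he0.symm)⟩
    · exact cls_trans 1 1 (by decide) sub1_root subP1_all d e hj hje
    · exact cls_trans 2 38 (by decide) sub2_root subP2_all d e hj hje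
  · -- class sizes
    intro j hj
    interval_cases j
    · show (Finset.univ.filter (fun c : Fin nn => cls c = 0)).card = 1
      rw [Finset.card_eq_one]
      refine ⟨⟨0, nn_pos⟩, ?_⟩
      ext c
      simp only [Finset.mem_filter, Finset.mem_univ, true_and, Finset.mem_singleton]
      rw [show cls c = lab c.val from rfl, (lab_spec c.val c.2).2]
      exact ⟨fun h => Fin.ext h, fun h => congrArg Fin.val h⟩
    · exact cls_card 1 1 315 sub1_count
    · exact cls_card 2 38 100 sub2_count
  · rw [hcardX]; exact hdiv_aux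
  · rw [hcardX]; norm_num
  · rw [card_Gh]; norm_num
  · -- generators are products of elements of order 13
    rintro _ ⟨w, hw, rfl⟩
    rw [words0_eq] at hw
    have hx : ∃ x : Gen, w = [x] := by
      simp only [List.mem_cons, List.not_mem_nil, or_false] at hw
      rcases hw with rfl | rfl | rfl | rfl | rfl | rfl <;> exact ⟨_, rfl⟩
    obtain ⟨x, rfl⟩ := hx
    show wp [x] ∈ _
    rw [wp_singleton]
    exact perm_mem_closure x

/-- The presented group is simple of order `251596800`. -/
theorem g2q_simple_order : IsSimpleGroup (PresentedGroup rels) ∧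
    Nat.card (PresentedGroup rels) = 251596800 := by
  refine ⟨?_, card_Q⟩
  obtain ⟨e⟩ := exists_equiv
  have := simple_Gh
  exact e.isSimpleGroup

end Cfsg.Agent.Lib.Helper56.G2Perm
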